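import Mathlib

/-!
Trace identities with denominators in a finite separable extension of fraction fields.
-/

set_option autoImplicit false
set_option backward.isDefEq.respectTransparency false
set_option linter.style.haveILetI false

universe u

noncomputable section

namespace Groth.Agent.RatTrace

variable {A B : Type u} [CommRing A] [CommRing B] [IsDomain A] [IsDomain B] [Algebra A B]

theorem exists_mul_eq [Algebra.IsIntegral A B] {b : B} (hb : b ≠ 0) :
    ∃ a : A, a ≠ 0 ∧ ∃ c : B, b * c = algebraMap A B a := by
  have h := Ideal.comap_ne_bot_of_integral_mem (R := A) (I := Ideal.span {b}) hb (Ideal.mem_span_singleton_self b)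
    (Algebra.IsIntegral.isIntegral b)
  obtain ⟨a, ha, ha0⟩ := Submodule.exists_mem_ne_zero_of_ne_bot h
  obtain ⟨c, hc⟩ := Ideal.mem_span_singleton'.1 (Ideal.mem_comap.1 ha)
  exact ⟨a, ha0, c, by rw [← hc, mul_comm]⟩

variable (K L : Type u) [Field K] [Field L] [Algebra A K] [IsFractionRing A K] [Algebra B L] [IsFractionRing B L]
  [Algebra K L] [Algebra A L] [IsScalarTower A K L] [IsScalarTower A B L]

theorem exists_clear [Algebra.IsIntegral A B] (hinj : Function.Injective (algebraMap A B)) (z : L) :
    ∃ a : A, a ≠ 0 ∧ ∃ b : B, algebraMap A L a * z = algebraMap B L b := by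
  obtain ⟨p, q, hq, rfl⟩ := IsFractionRing.div_surjective (A := B) z
  have hq0 : q ≠ 0 := nonZeroDivisors.ne_zero hq
  obtain ⟨a, ha, c, hc⟩ := exists_mul_eq (A := A) hq0
  refine ⟨a, ha, c * p, ?_⟩
  have hqL : algebraMap B L q ≠ 0 := (map_ne_zero_iff _ (IsFractionRing.injective B L)).2 hq0
  rw [IsScalarTower.algebraMap_apply A B L, ← hc, map_mul, map_mul]
  field_simp

theorem finiteDimensional_of_finite [Module.Finite A B] (hinj : Function.Injective (algebraMap A B)) :
    FiniteDimensional K L := by
  classical
  obtain ⟨s, hs⟩ := Module.finite_def.1 (inferInstance : Module.Finite A B)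
  refine ⟨⟨s.image (algebraMap B L), eq_top_iff.2 fun z _ => ?_⟩⟩
  obtain ⟨a, ha, b, hb⟩ := exists_clear (A := A) (B := B) L hinj z
  have haK : algebraMap A K a ≠ 0 := (map_ne_zero_iff _ (IsFractionRing.injective A K)).2 ha
  have hbs : algebraMap B L b ∈ Submodule.span K ((s.image (algebraMap B L) : Finset L) : Set L) := by
    have hb' : b ∈ Submodule.span A (s : Set B) := by rw [hs]; trivial
    clear hb
    induction hb' using Submodule.span_induction with
    | mem x hx => exact Submodule.subset_span (Finset.mem_coe.2 (Finset.mem_image_of_mem _ hx))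
    | zero => rw [map_zero]; exact Submodule.zero_mem _
    | add x y _ _ hx hy => rw [map_add]; exact Submodule.add_mem _ hx hy
    | smul r x _ hx =>
      rw [Algebra.smul_def, map_mul, ← IsScalarTower.algebraMap_apply A B L, IsScalarTower.algebraMap_apply A K L,
        ← Algebra.smul_def]
      exact Submodule.smul_mem _ _ hx
  rw [show z = (algebraMap A K a)⁻¹ • algebraMap B L b from by
    rw [eq_inv_smul_iff₀ haK, Algebra.smul_def, ← IsScalarTower.algebraMap_apply A K L, hb]]
  exact Submodule.smul_mem _ _ hbs

/-- The discriminant identity. -/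
theorem exists_trace_data [Module.Finite A B] (hinj : Function.Injective (algebraMap A B))
    [Algebra.IsSeparable K L] :
    ∃ (n : ℕ) (δ : A) (b w : Fin n → B), δ ≠ 0 ∧ ∀ z : L, ∑ j, algebraMap B L (b j) *
      algebraMap K L (Algebra.trace K L (algebraMap B L (w j) * z)) = algebraMap A L δ * z := by
  classical
  haveI := finiteDimensional_of_finite K L (A := A) (B := B) hinj
  let v := Module.finBasis K L
  have hnd := traceForm_nondegenerate K L
  let v' := (Algebra.traceForm K L).dualBasis hnd v
  have hexp : ∀ z : L, ∑ j, algebraMap K L (Algebra.trace K L (v' j * z)) * v j = z := by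
    let φ : L →ₗ[K] L := ∑ j, ((Algebra.traceForm K L) (v' j)).smulRight (v j)
    have hφ : φ = LinearMap.id := v.ext fun k => by
      simp only [φ, LinearMap.sum_apply, LinearMap.smulRight_apply, LinearMap.id_apply]
      rw [Finset.sum_eq_single k (fun j _ hjk => by
        rw [LinearMap.BilinForm.apply_dualBasis_left hnd, if_neg (Ne.symm hjk), zero_smul])
        (fun h => absurd (Finset.mem_univ k) h), LinearMap.BilinForm.apply_dualBasis_left hnd, if_pos rfl, one_smul]
    intro z
    refine Eq.trans ?_ (LinearMap.congr_fun hφ z)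
    simp only [φ, LinearMap.sum_apply, LinearMap.smulRight_apply, Algebra.smul_def]
    rfl
  choose α hα β hβ using fun j => exists_clear (A := A) (B := B) L hinj (v j)
  choose α' hα' ω hω using fun j => exists_clear (A := A) (B := B) L hinj (v' j)
  refine ⟨_, ∏ j, α j * α' j, fun j => algebraMap A B (∏ i ∈ Finset.univ.erase j, α i * α' i) * β j, ω,
    Finset.prod_ne_zero_iff.2 fun j _ => mul_ne_zero (hα j) (hα' j), fun z => ?_⟩
  conv_rhs => rw [← hexp z, Finset.mul_sum]
  refine Finset.sum_congr rfl fun j _ => ?_
  have htr : algebraMap K L (Algebra.trace K L (algebraMap B L (ω j) * z)) =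
      algebraMap A L (α' j) * algebraMap K L (Algebra.trace K L (v' j * z)) := by
    rw [← hω j, mul_assoc, IsScalarTower.algebraMap_apply A K L, ← Algebra.smul_def, map_smul, smul_eq_mul, map_mul]
  rw [htr, map_mul, ← IsScalarTower.algebraMap_apply A B L, ← hβ j,
    show algebraMap A L (∏ i, α i * α' i) = algebraMap A L (∏ i ∈ Finset.univ.erase j, α i * α' i) *
      (algebraMap A L (α j) * algebraMap A L (α' j)) by
      rw [← map_mul, ← map_mul, Finset.prod_erase_mul _ _ (Finset.mem_univ j)]]
  ring

end Groth.Agent.RatTrace
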