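import Groth.Agent.RatTrace.Trace
import Groth.Agent.RatTrace.Field
import Groth.Agent.RatLocal.Normalise
import Groth.Agent.Nakai.SemiAmple
import Groth.Agent.PtBlow.Rational
import Mathlib

/-!
The normal cover of a modification attached to a finite extension of the base, and the trace on it.
-/

set_option autoImplicit false
set_option backward.isDefEq.respectTransparency false
set_option backward.isDefEq.respectTransparency.types false
set_option linter.style.haveILetI false
set_option maxHeartbeats 1000000

universe u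

open CategoryTheory CategoryTheory.Limits AlgebraicGeometry TopologicalSpace

noncomputable section

namespace Groth.Agent.RatTrace

theorem map_generic_of_birational {W X : Scheme.{u}} [IsIntegral W] [IsIntegral X] (g : W ⟶ X) (V : X.Opens)
    (hV : (V : Set X).Nonempty) [IsIso (g ∣_ V)] : g (genericPoint W) = genericPoint X := by
  have hη : genericPoint X ∈ V := ((genericPoint_spec X).mem_open_set_iff V.2).2 (by simpa using hV)
  obtain ⟨z, hz⟩ := (g ∣_ V).surjective ⟨_, hη⟩
  have hz' : g z.1 = genericPoint X := (morphismRestrict_base_coe g V z).symm.trans (congrArg Subtype.val hz)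
  exact (((genericPoint_specializes z.1).map g.continuous).trans (by rw [hz'])).antisymm (genericPoint_specializes _)
    |>.eq

/-- The base ring inside the function field. -/
def baseMap {A : Type u} [CommRing A] {Y : Scheme.{u}} [IsIntegral Y] (f : Y ⟶ Spec (CommRingCat.of A)) :
    A →+* Y.functionField :=
  gTop.comp (Coh.toGlobal f)

/-- The function field of a modification is the fraction field of the base. -/
theorem isFractionRing_baseMap {A : Type u} [CommRing A] [IsDomain A] {Y : Scheme.{u}} [IsIntegral Y]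
    (f : Y ⟶ Spec (CommRingCat.of A)) (U : (Spec (CommRingCat.of A)).Opens)
    (hU : (U : Set (Spec (CommRingCat.of A))).Nonempty) [IsIso (f ∣_ U)] :
    letI := (baseMap f).toAlgebra
    IsFractionRing A Y.functionField := by
  letI := (baseMap f).toAlgebra
  have hη := map_generic_of_birational f U hU
  have hηU : genericPoint Y ∈ f ⁻¹ᵁ U := by
    show f (genericPoint Y) ∈ U
    rw [hη]
    exact ((genericPoint_spec _).mem_open_set_iff U.2).2 (by simpa using hU)
  let S := Spec (CommRingCat.of A)
  haveI : IsIso (f.stalkMap (genericPoint Y)) := by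
    have h := morphismRestrictStalkMap f U ⟨genericPoint Y, hηU⟩
    exact ((MorphismProperty.isomorphisms CommRingCat.{u}).arrow_mk_iso_iff h).1 (inferInstance)
  let e : S.functionField ≅ Y.functionField :=
    S.presheaf.stalkCongr (.of_eq hη.symm) ≪≫ asIso (f.stalkMap (genericPoint Y))
  letI : Algebra A S.functionField := instAlgebraCarrierFunctionFieldSpec (CommRingCat.of A)
  have hcomm : ∀ a : A, e.hom (algebraMap A S.functionField a) = algebraMap A Y.functionField a := by
    intro a
    have h1 : algebraMap A S.functionField a =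
        S.presheaf.germ ⊤ (genericPoint S) trivial ((Scheme.ΓSpecIso (CommRingCat.of A)).inv a) := rfl
    rw [h1]
    show (f.stalkMap (genericPoint Y)).hom
      ((S.presheaf.stalkCongr _).hom.hom (S.presheaf.germ ⊤ (genericPoint S) trivial _)) = _
    rw [TopCat.Presheaf.stalkCongr_hom]
    erw [TopCat.Presheaf.germ_stalkSpecializes_apply]
    exact Scheme.Hom.germ_stalkMap_apply f ⊤ _ trivial _
  haveI : IsFractionRing A S.functionField := functionField_isFractionRing_of_affine (CommRingCat.of A)
  let eA : S.functionField ≃ₐ[A] Y.functionField :=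
    AlgEquiv.ofRingEquiv (f := e.commRingCatIsoToRingEquiv) hcomm
  exact IsLocalization.isLocalization_of_algEquiv _ eA

variable {A B : Type u} [CommRing A] [CommRing B] [IsDomain A] [IsDomain B] [IsNoetherianRing A] [IsNoetherianRing B]
  [IsIntegrallyClosed B] [Algebra A B] [Module.Finite A B]

/-- The map of spectra. -/
abbrev specMap : Spec (CommRingCat.of B) ⟶ Spec (CommRingCat.of A) := Spec.map (CommRingCat.ofHom (algebraMap A B))

/-- The normal cover of a modification. -/
theorem exists_cover (hNB : CAlg.IsNagata B) (hinj : Function.Injective (algebraMap A B))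
    {Y : Scheme.{u}} [IsIntegral Y] (f : Y ⟶ Spec (CommRingCat.of A)) [IsProper f]
    (U : (Spec (CommRingCat.of A)).Opens) (hU : (U : Set (Spec (CommRingCat.of A))).Nonempty) [IsIso (f ∣_ U)] :
    ∃ (Z : Scheme.{u}) (g : Z ⟶ Spec (CommRingCat.of B)) (π : Z ⟶ Y), IsProper g ∧ IsIntegral Z ∧
      Pi1.IsNormalScheme Z ∧
      (∃ V : (Spec (CommRingCat.of B)).Opens, (V : Set (Spec (CommRingCat.of B))).Nonempty ∧ IsIso (g ∣_ V)) ∧
      IsFinite π ∧ π ≫ f = g ≫ specMap := by
  haveI : IsFinite (specMap (A := A) (B := B)) := by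
    rw [HasAffineProperty.SpecMap_iff_of_affineAnd (P := @IsFinite) (Q := @RingHom.Finite) inferInstance
      RingHom.finite_respectsIso]
    exact RingHom.finite_algebraMap.2 inferInstance
  let p : Spec (CommRingCat.of B) ⟶ Spec (CommRingCat.of A) := specMap
  let SB := Spec (CommRingCat.of B)
  let V : SB.Opens := p ⁻¹ᵁ U
  have hVne : (V : Set SB).Nonempty := by
    have hη : genericPoint (Spec (CommRingCat.of A)) ∈ U :=
      ((genericPoint_spec _).mem_open_set_iff U.2).2 (by simpa using hU)
    rw [genericPoint_eq_bot_of_affine] at hη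
    refine ⟨(⟨⊥, Ideal.bot_prime⟩ : PrimeSpectrum B), ?_⟩
    show p.base _ ∈ U
    convert hη using 1
    exact PrimeSpectrum.ext (Ideal.comap_bot_of_injective _ hinj)
  haveI : Nonempty (V : Scheme.{u}) := hVne.to_subtype
  haveI : IsIntegral (V : Scheme.{u}) := isIntegral_of_isOpenImmersion V.ι
  let q : pullback f p ⟶ SB := pullback.snd f p
  haveI hq : IsIso (q ∣_ V) := by
    have hA := (isPullback_morphismRestrict q V).flip
    have hB := hA.paste_horiz (IsPullback.of_hasPullback f p)
    rw [← morphismRestrict_ι p U] at hB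
    have hD := IsPullback.of_right' hB (isPullback_morphismRestrict f U).flip
    exact MorphismProperty.of_isPullback (P := MorphismProperty.isomorphisms Scheme.{u}) hD ‹IsIso (f ∣_ U)›
  let s : (V : Scheme.{u}) ⟶ pullback f p := inv (q ∣_ V) ≫ (q ⁻¹ᵁ V).ι
  have hsq : s ≫ q = V.ι := by
    simp only [s, Category.assoc]
    rw [← morphismRestrict_ι, IsIso.inv_hom_id_assoc]
  haveI : QuasiCompact s := by
    haveI : QuasiCompact (s ≫ q) := by rw [hsq]; infer_instance
    exact QuasiCompact.of_comp s q
  haveI : IsIntegral s.image := Nakai.isIntegral_image s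
  let c : s.image ⟶ SB := s.imageι ≫ q
  haveI : IsProper q := MorphismProperty.pullback_snd (P := @IsProper) _ _ inferInstance
  haveI : IsProper c := inferInstance
  haveI hcV : IsIso (c ∣_ V) := by
    have hc : c ∣_ V = (s.imageι ∣_ q ⁻¹ᵁ V) ≫ (q ∣_ V) := morphismRestrict_comp _ _ _
    haveI : IsClosedImmersion (s.imageι ∣_ q ⁻¹ᵁ V) :=
      IsZariskiLocalAtTarget.restrict (P := @IsClosedImmersion) inferInstance _
    haveI : IsClosedImmersion (c ∣_ V) := by rw [hc]; infer_instance
    haveI : Surjective (c ∣_ V) := by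
      refine ⟨fun y => ?_⟩
      have hy : (s.toImage ≫ c) y = y.1 := by
        show (s.toImage ≫ s.imageι ≫ q) y = y.1
        rw [Scheme.Hom.toImage_imageι_assoc, hsq]
        rfl
      have hmem : s.toImage y ∈ c ⁻¹ᵁ V := by
        show c (s.toImage y) ∈ V
        rw [← Scheme.Hom.comp_apply, hy]; exact y.2
      exact ⟨⟨s.toImage y, hmem⟩, Subtype.ext ((morphismRestrict_base_coe c V _).trans hy)⟩
    exact isIso_of_isClosedImmersion_of_surjective _
  obtain ⟨Z, ν, hνf, hν, hZi, hZn, hZb, -⟩ := RatLocal.exists_normal_over_finite hNB c ⟨V, hVne, hcV⟩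
  haveI := hνf
  haveI : IsFinite (pullback.fst f p) := MorphismProperty.pullback_fst (P := @IsFinite) _ _ inferInstance
  refine ⟨Z, ν ≫ c, ν ≫ s.imageι ≫ pullback.fst f p, hν, hZi, hZn, hZb, inferInstance, ?_⟩
  simp only [c, q, Category.assoc, pullback.condition]
  rfl

section Kill

variable (A B) [IsIntegrallyClosed A]
variable (K L : Type u) [Field K] [Field L] [Algebra A K] [IsFractionRing A K] [Algebra B L] [IsFractionRing B L]
  [Algebra K L] [Algebra A L] [IsScalarTower A K L] [IsScalarTower A B L]

/-- Structures on the function fields of a cover. -/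
theorem exists_structures (hinj : Function.Injective (algebraMap A B)) {Y Z : Scheme.{u}} [IsIntegral Y] [IsIntegral Z]
    (f : Y ⟶ Spec (CommRingCat.of A)) (g : Z ⟶ Spec (CommRingCat.of B)) (π : Z ⟶ Y) (hsq : π ≫ f = g ≫ specMap)
    (U : (Spec (CommRingCat.of A)).Opens) (hU : (U : Set (Spec (CommRingCat.of A))).Nonempty) [IsIso (f ∣_ U)]
    (V : (Spec (CommRingCat.of B)).Opens) (hV : (V : Set (Spec (CommRingCat.of B))).Nonempty) [IsIso (g ∣_ V)] :
    ∃ (_ : IsDom π) (_ : Algebra Y.functionField Z.functionField) (eK : K ≃+* Y.functionField)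
      (eL : L ≃+* Z.functionField),
      IsCompat π ∧ FiniteDimensional Y.functionField Z.functionField ∧
      (∀ b : B, eL (algebraMap B L b) = gTop (Coh.toGlobal g b)) ∧
      RingHom.comp (algebraMap Y.functionField Z.functionField) ↑eK = RingHom.comp ↑eL (algebraMap K L) := by
  have hg := map_generic_of_birational g V hV
  have hf := map_generic_of_birational f U hU
  have hp : (specMap (A := A) (B := B)).base (genericPoint _) = genericPoint (Spec (CommRingCat.of A)) := by
    rw [genericPoint_eq_bot_of_affine, genericPoint_eq_bot_of_affine]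
    exact PrimeSpectrum.ext (Ideal.comap_bot_of_injective _ hinj)
  have hfπ : f (π (genericPoint Z)) = genericPoint (Spec (CommRingCat.of A)) := by
    rw [← Scheme.Hom.comp_apply, hsq, Scheme.Hom.comp_apply, hg]
    exact hp
  haveI hdom : IsDom π := ⟨by
    have h1 : π (genericPoint Z) ∈ f ⁻¹ᵁ U := by
      show f (π (genericPoint Z)) ∈ U
      rw [hfπ]; exact ((genericPoint_spec _).mem_open_set_iff U.2).2 (by simpa using hU)
    have h2 : genericPoint Y ∈ f ⁻¹ᵁ U := by
      show f (genericPoint Y) ∈ U
      rw [hf]; exact ((genericPoint_spec _).mem_open_set_iff U.2).2 (by simpa using hU)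
    have h3 : (f ∣_ U) ⟨π (genericPoint Z), h1⟩ = (f ∣_ U) ⟨genericPoint Y, h2⟩ := by
      refine Subtype.ext ((morphismRestrict_base_coe f U _).trans (Eq.trans ?_ (morphismRestrict_base_coe f U _).symm))
      show f (π (genericPoint Z)) = f (genericPoint Y)
      rw [hfπ, hf]
    exact congrArg Subtype.val ((f ∣_ U).injective h3)⟩
  letI alg : Algebra Y.functionField Z.functionField := (ffMap π).toAlgebra
  haveI hcompat : IsCompat π := ⟨rfl⟩
  letI := (baseMap f).toAlgebra
  letI := (baseMap g).toAlgebra
  haveI := isFractionRing_baseMap f U hU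
  haveI := isFractionRing_baseMap g V hV
  letI : Algebra A Z.functionField := ((baseMap g).comp (algebraMap A B)).toAlgebra
  haveI : IsScalarTower A B Z.functionField := IsScalarTower.of_algebraMap_eq fun _ => rfl
  haveI : IsScalarTower A Y.functionField Z.functionField := IsScalarTower.of_algebraMap_eq fun a => by
    haveI : Nonempty (⊤ : Y.Opens) := ⟨⟨genericPoint Y, trivial⟩⟩
    show gTop (Coh.toGlobal g (algebraMap A B a)) = ffMap π (Y.germToFunctionField ⊤ (Coh.toGlobal f a))
    rw [ffMap_germ π ⊤]
    have e : (Coh.toGlobal g (algebraMap A B a) : Γ(Z, ⊤)) = π.appTop (Coh.toGlobal f a) := by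
      have h1 := congrArg (fun k : Z ⟶ Spec (CommRingCat.of A) => (Coh.toGlobal k a : Γ(Z, ⊤))) hsq
      refine Eq.trans ?_ h1.symm
      simp only [Coh.toGlobal, Scheme.Hom.comp_appTop, specMap]
      have hn := ConcreteCategory.congr_hom (Scheme.ΓSpecIso_inv_naturality (CommRingCat.ofHom (algebraMap A B))) a
      exact congrArg g.appTop hn
    rw [e]
    rfl
  let eK : K ≃ₐ[A] Y.functionField := IsLocalization.algEquiv (nonZeroDivisors A) K Y.functionField
  let eL : L ≃ₐ[B] Z.functionField := IsLocalization.algEquiv (nonZeroDivisors B) L Z.functionField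
  refine ⟨hdom, alg, eK.toRingEquiv, eL.toRingEquiv, hcompat,
    finiteDimensional_of_finite Y.functionField Z.functionField (A := A) (B := B) hinj, fun b => eL.commutes b, ?_⟩
  refine IsLocalization.ringHom_ext (nonZeroDivisors A) (RingHom.ext fun a => ?_)
  show algebraMap Y.functionField Z.functionField (eK (algebraMap A K a)) = eL (algebraMap K L (algebraMap A K a))
  rw [eK.commutes, ← IsScalarTower.algebraMap_apply A K L, IsScalarTower.algebraMap_apply A B L, eL.commutes,
    ← IsScalarTower.algebraMap_apply A Y.functionField Z.functionField,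
    ← IsScalarTower.algebraMap_apply A B Z.functionField]

/-- On the cover of a normal modification killed by `c`, the trace kills `H¹` by `c δ`. -/
theorem smul_h1_eq_zero (hinj : Function.Injective (algebraMap A B)) (n : ℕ) (δ : A) (b w : Fin n → B)
    (hid : ∀ z : L, ∑ j, algebraMap B L (b j) *
      algebraMap K L (Algebra.trace K L (algebraMap B L (w j) * z)) = algebraMap A L δ * z)
    {Y Z : Scheme.{u}} [IsIntegral Y] [IsIntegral Z] [Y.Over (Spec (CommRingCat.of A))]
    [Z.Over (Spec (CommRingCat.of A))] (hYn : Pi1.IsNormalScheme Y)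
    (g : Z ⟶ Spec (CommRingCat.of B)) (hg : g ≫ specMap = Z ↘ Spec (CommRingCat.of A))
    (π : Z ⟶ Y) [IsFinite π] (hsq : π ≫ (Y ↘ Spec (CommRingCat.of A)) = g ≫ specMap)
    (U : (Spec (CommRingCat.of A)).Opens) (hU : (U : Set (Spec (CommRingCat.of A))).Nonempty)
    [IsIso ((Y ↘ Spec (CommRingCat.of A)) ∣_ U)]
    (V : (Spec (CommRingCat.of B)).Opens) (hV : (V : Set (Spec (CommRingCat.of B))).Nonempty) [IsIso (g ∣_ V)]
    (c : A) (hc : ∀ x : Coh.HH Y (Coh.structureModule Y) 1, c • x = 0)
    (x : Coh.HH Z (Coh.structureModule Z) 1) : (c * δ) • x = 0 := by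
  obtain ⟨hdom, alg, eK, eL, hcompat, hfd, hB, he⟩ :=
    exists_structures A B K L hinj (Y ↘ Spec (CommRingCat.of A)) g π hsq U hU V hV
  haveI := hdom; haveI := hcompat; haveI := hfd
  refine smul_hh_push_eq_zero π A c δ hc (fun j => Coh.toGlobal g (b j)) (fun j => Coh.toGlobal g (w j)) (fun z => ?_)
    (fun y => (hYn y).2) (hsq.trans hg) x
  obtain ⟨z, rfl⟩ := eL.surjective z
  have h1 := congrArg eL (hid z)
  rw [map_sum, map_mul] at h1
  refine (Finset.sum_congr rfl fun j _ => ?_).trans (h1.trans ?_)
  · refine Eq.trans ?_ (map_mul eL _ _).symm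
    rw [hB]
    congr 1
    have h2 := RingHom.congr_fun he (Algebra.trace K L (algebraMap B L (w j) * z))
    simp only [RingHom.comp_apply] at h2
    refine Eq.trans ?_ h2
    congr 1
    rw [Algebra.trace_eq_of_equiv_equiv eK eL he]
    simp [hB]
  · congr 1
    rw [IsScalarTower.algebraMap_apply A B L, hB]
    congr 1
    rw [← hg]
    simp only [Coh.toGlobal, Scheme.Hom.comp_appTop, specMap]
    exact congrArg g.appTop
      (ConcreteCategory.congr_hom (Scheme.ΓSpecIso_inv_naturality (CommRingCat.ofHom (algebraMap A B))) δ)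

/-- If `H¹` of the cover vanishes, the degree kills `H¹` of the modification. -/
theorem natCast_smul_h1_eq_zero (hinj : Function.Injective (algebraMap A B))
    {Y Z : Scheme.{u}} [IsIntegral Y] [IsIntegral Z] [Y.Over (Spec (CommRingCat.of A))]
    (hYn : Pi1.IsNormalScheme Y) (g : Z ⟶ Spec (CommRingCat.of B))
    (π : Z ⟶ Y) [IsFinite π] (hsq : π ≫ (Y ↘ Spec (CommRingCat.of A)) = g ≫ specMap)
    (U : (Spec (CommRingCat.of A)).Opens) (hU : (U : Set (Spec (CommRingCat.of A))).Nonempty)
    [IsIso ((Y ↘ Spec (CommRingCat.of A)) ∣_ U)]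
    (V : (Spec (CommRingCat.of B)).Opens) (hV : (V : Set (Spec (CommRingCat.of B))).Nonempty) [IsIso (g ∣_ V)]
    (hZ : Subsingleton (Coh.HH Z (Coh.structureModule Z) 1))
    (x : Coh.HH Y (Coh.structureModule Y) 1) : (Module.finrank K L : A) • x = 0 := by
  obtain ⟨hdom, alg, eK, eL, hcompat, hfd, hB, he⟩ :=
    exists_structures A B K L hinj (Y ↘ Spec (CommRingCat.of A)) g π hsq U hU V hV
  haveI := hdom; haveI := hcompat; haveI := hfd
  letI : Z.Over (Spec (CommRingCat.of A)) := ⟨π ≫ (Y ↘ Spec (CommRingCat.of A))⟩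
  rw [Algebra.finrank_eq_of_equiv_equiv eK eL he]
  exact natCast_smul_eq_zero π A (fun y => (hYn y).2) rfl hZ x

end Kill

end Groth.Agent.RatTrace
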