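import Groth.Agent.NormSect.Basic
import Groth.Agent.PicBdd.Resolve
import Groth.Agent.CohFinite.Linear
import Groth.Agent.CohFinite.PushLinear
import Groth.Agent.CohQC.Push
import Groth.Prelude.Def_ClSub2
import Groth.Prelude.Def_StMod
import Mathlib

/-!
The trace of a finite map to a normal integral scheme as a map of modules; its effect on cohomology.
-/

set_option autoImplicit false
set_option backward.isDefEq.respectTransparency false
set_option backward.isDefEq.respectTransparency.types false
set_option linter.style.haveILetI false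
set_option maxHeartbeats 1000000

universe u

open CategoryTheory CategoryTheory.Limits AlgebraicGeometry TopologicalSpace Opposite

noncomputable section

namespace Groth.Agent.RatTrace

variable {Y Z : Scheme.{u}} [IsIntegral Y] [IsIntegral Z]

/-- An element of the function field which is locally a section is a section. -/
theorem exists_section {V : Y.Opens} [Nonempty V] (c : Y.functionField)
    (h : ∀ y ∈ V, ∃ W : Y.Opens, y ∈ W ∧ W ≤ V ∧ ∃ _ : Nonempty W, ∃ s : Γ(Y, W), Y.germToFunctionField W s = c) :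
    ∃ s : Γ(Y, V), Y.germToFunctionField V s = c := by
  choose W hyW hWV hne s hs using fun y : V => h y.1 y.2
  have hcompat : TopCat.Presheaf.IsCompatible Y.presheaf W s := by
    intro i j
    haveI := hne i; haveI := hne j
    have hne' : ((W i : Set Y) ∩ W j).Nonempty :=
      nonempty_preirreducible_inter (W i).2 (W j).2 ⟨i.1, hyW i⟩ ⟨j.1, hyW j⟩
    haveI : Nonempty ((W i ⊓ W j : Y.Opens) : Scheme.{u}) := hne'.to_subtype
    apply germ_injective_of_isIntegral Y (genericPoint Y)
      (((genericPoint_spec Y).mem_open_set_iff (W i ⊓ W j).2).2 (by simpa using hne'))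
    exact ((NormSect.germTo_res inf_le_left (s i)).trans ((hs i).trans (hs j).symm)).trans
      (NormSect.germTo_res inf_le_right (s j)).symm
  obtain ⟨σ, hσ, -⟩ := Y.sheaf.existsUnique_gluing' W V (fun i => homOfLE (hWV i))
    (fun x hx => Opens.mem_iSup.2 ⟨⟨x, hx⟩, hyW ⟨x, hx⟩⟩) s hcompat
  refine ⟨σ, ?_⟩
  obtain ⟨p⟩ := (inferInstance : Nonempty V)
  haveI := hne p
  rw [← NormSect.germTo_res (hWV p) σ]
  exact (congrArg (Y.germToFunctionField (W p)) (hσ p)).trans (hs p)

variable (π : Z ⟶ Y)

/-- The generic point goes to the generic point. -/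
class IsDom : Prop where
  map_generic : π (genericPoint Z) = genericPoint Y

variable [IsDom π]

/-- The map of function fields. -/
def ffMap : Y.functionField →+* Z.functionField :=
  (π.stalkMap (genericPoint Z)).hom.comp
    (Y.presheaf.stalkCongr (.of_eq (IsDom.map_generic (π := π)).symm)).hom.hom

theorem generic_mem (V : Y.Opens) [hV : Nonempty V] : genericPoint Z ∈ π ⁻¹ᵁ V := by
  show π (genericPoint Z) ∈ V
  rw [IsDom.map_generic (π := π)]
  exact ((genericPoint_spec Y).mem_open_set_iff V.2).2 (by simpa using hV)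

theorem ffMap_germ (V : Y.Opens) [Nonempty V] (s : Γ(Y, V)) :
    ffMap π (Y.germToFunctionField V s) = Z.presheaf.germ (π ⁻¹ᵁ V) _ (generic_mem π V) (π.app V s) := by
  show (π.stalkMap (genericPoint Z)).hom ((Y.presheaf.stalkCongr _).hom.hom (Y.presheaf.germ V _ _ s)) = _
  rw [TopCat.Presheaf.stalkCongr_hom]
  erw [TopCat.Presheaf.germ_stalkSpecializes_apply]
  exact Scheme.Hom.germ_stalkMap_apply π V _ _ s

variable [Algebra Y.functionField Z.functionField]

/-- The algebra structure on function fields comes from the morphism. -/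
class IsCompat : Prop where
  algebraMap_eq : algebraMap Y.functionField Z.functionField = ffMap π

theorem algebraMap_germ [IsCompat π] (V : Y.Opens) [Nonempty V] (s : Γ(Y, V)) :
    algebraMap Y.functionField Z.functionField (Y.germToFunctionField V s) =
      Z.presheaf.germ (π ⁻¹ᵁ V) _ (generic_mem π V) (π.app V s) := by
  rw [IsCompat.algebraMap_eq (π := π)]
  exact ffMap_germ π V s

/-- The germ of a section upstairs at the generic point. -/
def germZ (V : Y.Opens) [Nonempty V] : Γ(Z, π ⁻¹ᵁ V) →+* Z.functionField :=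
  (Z.presheaf.germ (π ⁻¹ᵁ V) _ (generic_mem π V)).hom

theorem germZ_res {V V' : Y.Opens} [Nonempty V] [Nonempty V'] (h : V' ≤ V) (t : Γ(Z, π ⁻¹ᵁ V)) :
    germZ π V' (Z.presheaf.map (homOfLE (π.preimage_mono h)).op t) = germZ π V t :=
  Z.presheaf.germ_res_apply (homOfLE (π.preimage_mono h)) _ _ t

variable [IsCompat π] [IsFinite π] [FiniteDimensional Y.functionField Z.functionField]
  (hY : ∀ y : Y, IsIntegrallyClosed (Y.presheaf.stalk y))

/-- The trace in the function field. -/
def trFF (V : Y.Opens) [Nonempty V] (t : Γ(Z, π ⁻¹ᵁ V)) : Y.functionField :=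
  Algebra.trace Y.functionField Z.functionField (germZ π V t)

include hY in
theorem exists_trace (V : Y.Opens) [Nonempty V] (t : Γ(Z, π ⁻¹ᵁ V)) :
    ∃ s : Γ(Y, V), Y.germToFunctionField V s = trFF π V t := by
  refine exists_section _ fun y hy => ?_
  obtain ⟨W, hW, hyW, hWV⟩ := exists_isAffineOpen_mem_and_subset (X := Y) (x := y) (U := V) hy
  haveI : Nonempty W := ⟨⟨y, hyW⟩⟩
  refine ⟨W, hyW, hWV, inferInstance, ?_⟩
  haveI : IsFractionRing Γ(Y, W) Y.functionField := functionField_isFractionRing_of_isAffineOpen Y W hW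
  haveI := NormSect.isIntegrallyClosed_sections W fun x _ => hY x
  letI : Algebra Γ(Y, W) Z.functionField := ((germZ π W).comp (π.app W).hom).toAlgebra
  haveI : IsScalarTower Γ(Y, W) Y.functionField Z.functionField :=
    IsScalarTower.of_algebraMap_eq fun s => (algebraMap_germ π W s).symm
  let t' : Γ(Z, π ⁻¹ᵁ W) := Z.presheaf.map (homOfLE (π.preimage_mono hWV)).op t
  have hint : IsIntegral Γ(Y, W) (germZ π W t') := by
    obtain ⟨P, hP, h0⟩ := (π.finite_app W hW).to_isIntegral t'
    refine ⟨P, hP, ?_⟩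
    have h1 := congrArg (germZ π W) h0
    rwa [Polynomial.hom_eval₂, map_zero] at h1
  have htr : IsIntegral Γ(Y, W) (trFF π W t') := Algebra.isIntegral_trace hint
  obtain ⟨s, hs⟩ := IsIntegrallyClosed.isIntegral_iff.1 htr
  refine ⟨s, hs.trans ?_⟩
  rw [trFF, trFF, germZ_res π hWV t]

open Classical in
/-- The trace on sections. -/
def trFun (V : Y.Opens) (t : Γ(Z, π ⁻¹ᵁ V)) : Γ(Y, V) :=
  if h : Nonempty V then (haveI := h; Classical.choose (exists_trace π hY V t)) else 0

theorem germ_trFun (V : Y.Opens) [h : Nonempty V] (t : Γ(Z, π ⁻¹ᵁ V)) :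
    Y.germToFunctionField V (trFun π hY V t) = trFF π V t := by
  rw [trFun, dif_pos h]
  exact Classical.choose_spec (exists_trace π hY V t)

theorem eq_of_germ (V : Y.Opens) (a b : Γ(Y, V))
    (h : ∀ _ : Nonempty V, Y.germToFunctionField V a = Y.germToFunctionField V b) : a = b := by
  by_cases hV : Nonempty V
  · exact Scheme.germToFunctionField_injective Y V (h hV)
  · have hbot : V = ⊥ := by
      rw [eq_bot_iff]; exact fun x hx => (hV ⟨⟨x, hx⟩⟩).elim
    subst hbot
    exact Subsingleton.elim _ _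

/-- The trace as a map of modules. -/
def trHom : (Coh.push π).obj (Coh.structureModule Z) ⟶ Coh.structureModule Y :=
  ⟨PresheafOfModules.homMk
    { app := fun V => AddCommGrpCat.ofHom (AddMonoidHom.mk' (fun t => trFun π hY V.unop t) fun (a b : Γ(Z, π ⁻¹ᵁ V.unop)) => by
        refine eq_of_germ _ _ _ fun _ => ?_
        rw [germ_trFun, map_add, germ_trFun, germ_trFun, trFF, trFF, trFF, map_add, map_add])
      naturality := fun V V' i => by
        ext (t : Γ(Z, π ⁻¹ᵁ V.unop))
        show trFun π hY V'.unop (Z.presheaf.map (homOfLE (π.preimage_mono (leOfHom i.unop))).op t) =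
          Y.presheaf.map (homOfLE (leOfHom i.unop)).op (trFun π hY V.unop t)
        refine eq_of_germ _ _ _ fun h' => ?_
        obtain ⟨p⟩ := id h'
        haveI : Nonempty V.unop := ⟨⟨p.1, leOfHom i.unop p.2⟩⟩
        rw [germ_trFun, NormSect.germTo_res, germ_trFun, trFF, trFF, germZ_res π (leOfHom i.unop) t] }
    fun V (r : Γ(Y, V.unop)) (t : Γ(Z, π ⁻¹ᵁ V.unop)) => by
      show trFun π hY V.unop ((π.app V.unop).hom r * t) = r * trFun π hY V.unop t
      refine eq_of_germ _ _ _ fun _ => ?_
      rw [germ_trFun, map_mul, germ_trFun, trFF, trFF, map_mul]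
      have e : germZ π V.unop ((π.app V.unop).hom r) =
          algebraMap Y.functionField Z.functionField (Y.germToFunctionField V.unop r) := (algebraMap_germ π V.unop r).symm
      rw [e, ← Algebra.smul_def, map_smul, smul_eq_mul]⟩

theorem germ_trHom (V : Y.Opens) [Nonempty V] (t : Γ(Z, π ⁻¹ᵁ V)) :
    Y.germToFunctionField V ((trHom π hY).app V t : Γ(Y, V)) =
      Algebra.trace Y.functionField Z.functionField (germZ π V t) :=
  germ_trFun π hY V t

/-- The germ of a global function. -/
def gTop : Γ(Z, ⊤) →+* Z.functionField := (Z.presheaf.germ ⊤ (genericPoint Z) trivial).hom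

variable (A : Type u) [CommRing A] [Y.Over (Spec (CommRingCat.of A))] [Z.Over (Spec (CommRingCat.of A))]

omit [IsIntegral Y] in
theorem hhMap_sum {ι : Type} [Fintype ι] {M N : Y.Modules} (φ : ι → (M ⟶ N)) (q : ℕ) (x : Coh.HH Y M q) :
    CohFinite.hhMap A (∑ j, φ j) q x = ∑ j, CohFinite.hhMap A (φ j) q x := by
  classical
  have h : ∀ s : Finset ι, CohFinite.hhMap A (∑ j ∈ s, φ j) q x = ∑ j ∈ s, CohFinite.hhMap A (φ j) q x := by
    intro s
    change ((Sheaf.functorH _ q).map (CohFinite.toAbMap (∑ j ∈ s, φ j))).hom x = _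
    rw [CohFinite.toAbMap, Functor.map_sum, Functor.map_sum]
    let ev : ((Sheaf.functorH (Opens.grothendieckTopology Y) q).obj (Coh.toAb M) ⟶
        (Sheaf.functorH (Opens.grothendieckTopology Y) q).obj (Coh.toAb N)) →+ Coh.HH Y N q :=
      AddMonoidHom.mk' (fun f => f.hom x) (fun _ _ => rfl)
    exact (map_sum ev _ _).trans (Finset.sum_congr rfl fun j _ => rfl)
  exact h Finset.univ

omit [IsIntegral Y] in
theorem hhMap_scal (a : A) (M : Y.Modules) (q : ℕ) (x : Coh.HH Y M q) :
    CohFinite.hhMap A (PicBdd.scal (show Γ(Y, ⊤) from Coh.toGlobal (Y ↘ Spec (CommRingCat.of A)) a) M) q x = a • x := by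
  change Sheaf.H.map _ q x = Sheaf.H.map _ q x
  congr 2

/-- Multiplication by a global function upstairs, downstairs. -/
def mulHom (b : Γ(Z, ⊤)) :
    (Coh.push π).obj (Coh.structureModule Z) ⟶ (Coh.push π).obj (Coh.structureModule Z) :=
  (Coh.push π).map (PicBdd.scal b (Coh.structureModule Z))

theorem mulHom_app (b : Γ(Z, ⊤)) (V : Y.Opens) (t : Γ(Z, π ⁻¹ᵁ V)) :
    ((mulHom π b).app V t : Γ(Z, π ⁻¹ᵁ V)) = Z.presheaf.map (homOfLE le_top).op b * t := rfl

theorem germZ_top (b : Γ(Z, ⊤)) (V : Y.Opens) [Nonempty V] :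
    germZ π V (Z.presheaf.map (homOfLE (le_top : π ⁻¹ᵁ V ≤ ⊤)).op b) = gTop b :=
  Z.presheaf.germ_res_apply (homOfLE (le_top : π ⁻¹ᵁ V ≤ ⊤)) _ _ b

variable (hπ : π ≫ (Y ↘ Spec (CommRingCat.of A)) = Z ↘ Spec (CommRingCat.of A))

/-- The trace kills a class if the classes downstairs are killed. -/
theorem smul_hh_push_eq_zero {ι : Type} [Fintype ι] (c δ : A)
    (hc : ∀ x : Coh.HH Y (Coh.structureModule Y) 1, c • x = 0) (b w : ι → Γ(Z, ⊤))
    (hid : ∀ z : Z.functionField, ∑ j, gTop (b j) *
        algebraMap Y.functionField Z.functionField (Algebra.trace Y.functionField Z.functionField (gTop (w j) * z)) =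
      gTop (Coh.toGlobal (Z ↘ Spec (CommRingCat.of A)) δ) * z)
    (hY : ∀ y : Y, IsIntegrallyClosed (Y.presheaf.stalk y))
    (hπ : π ≫ (Y ↘ Spec (CommRingCat.of A)) = Z ↘ Spec (CommRingCat.of A))
    (x : Coh.HH Z (Coh.structureModule Z) 1) : (c * δ) • x = 0 := by
  haveI : (Coh.structureModule Z).IsQuasicoherent := StMod.isQCoh_structureModule Z
  obtain ⟨E⟩ := CohFinite.hh_push_linear A π hπ (Coh.structureModule Z)
    (CohQC.directAcyclic_of_isAffineHom π (Coh.structureModule Z)) 1
  apply E.injective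
  rw [map_smul, map_zero]
  let χ : ι → ((Coh.push π).obj (Coh.structureModule Z) ⟶ Coh.structureModule Y) := fun j =>
    mulHom π (w j) ≫ trHom π hY
  let φ : ι → (Coh.structureModule Y ⟶ (Coh.push π).obj (Coh.structureModule Z)) := fun j =>
    ClSub.unitToPush π ≫ mulHom π (b j)
  have key : ∑ j, χ j ≫ φ j =
      PicBdd.scal (show Γ(Y, ⊤) from Coh.toGlobal (Y ↘ Spec (CommRingCat.of A)) δ)
        ((Coh.push π).obj (Coh.structureModule Z)) := by
    refine Scheme.Modules.hom_ext _ _ fun V => ?_
    ext (t : Γ(Z, π ⁻¹ᵁ V))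
    have hsum : ((∑ j, χ j ≫ φ j).app V t : Γ(Z, π ⁻¹ᵁ V)) =
        ∑ j, Z.presheaf.map (homOfLE le_top).op (b j) *
          (π.app V) ((trHom π hY).app V (Z.presheaf.map (homOfLE le_top).op (w j) * t) : Γ(Y, V)) := by
      let ev : ((Coh.push π).obj (Coh.structureModule Z) ⟶ (Coh.push π).obj (Coh.structureModule Z)) →+
          Γ(Z, π ⁻¹ᵁ V) := AddMonoidHom.mk' (fun f => f.app V t) (fun _ _ => rfl)
      exact (map_sum ev _ _).trans (Finset.sum_congr rfl fun j _ => rfl)
    show ((∑ j, χ j ≫ φ j).app V t : Γ(Z, π ⁻¹ᵁ V)) =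
      (π.app V) (Y.presheaf.map (homOfLE le_top).op (Coh.toGlobal (Y ↘ Spec (CommRingCat.of A)) δ)) * t
    rw [hsum]
    by_cases hV : Nonempty V
    · refine germ_injective_of_isIntegral Z (genericPoint Z) (generic_mem π V) ?_
      show germZ π V _ = germZ π V _
      rw [map_sum, map_mul]
      have e1 : ∀ j, germZ π V (Z.presheaf.map (homOfLE le_top).op (b j) *
          (π.app V) ((trHom π hY).app V (Z.presheaf.map (homOfLE le_top).op (w j) * t) : Γ(Y, V))) =
          gTop (b j) * algebraMap Y.functionField Z.functionField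
            (Algebra.trace Y.functionField Z.functionField (gTop (w j) * germZ π V t)) := by
        intro j
        rw [map_mul, germZ_top]
        congr 1
        refine (algebraMap_germ π V _).symm.trans ?_
        rw [germ_trHom, map_mul, germZ_top]
      rw [Finset.sum_congr rfl fun j _ => e1 j, hid (germZ π V t)]
      congr 1
      rw [← germZ_top π (Coh.toGlobal (Z ↘ Spec (CommRingCat.of A)) δ) V]
      congr 1
      have e2 : (Coh.toGlobal (Z ↘ Spec (CommRingCat.of A)) δ : Γ(Z, ⊤)) =
          π.appTop (Coh.toGlobal (Y ↘ Spec (CommRingCat.of A)) δ) := by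
        simp only [← hπ, Coh.toGlobal, Scheme.Hom.comp_appTop]
        rfl
      rw [e2]
      exact (ConcreteCategory.congr_hom (π.naturality (homOfLE (le_top : V ≤ ⊤)).op) _).symm
    · have hbot : π ⁻¹ᵁ V = ⊥ := by
        rw [eq_bot_iff]; exact fun x hx => (hV ⟨⟨π x, hx⟩⟩).elim
      have hs : Subsingleton Γ(Z, π ⁻¹ᵁ V) := by rw [hbot]; infer_instance
      exact @Subsingleton.elim _ hs _ _
  have h1 := hhMap_sum A (fun j => χ j ≫ φ j) 1 (E x)
  rw [key, hhMap_scal] at h1
  rw [mul_smul, h1, Finset.smul_sum]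
  refine Finset.sum_eq_zero fun j _ => ?_
  rw [CohFinite.hhMap_comp, ← map_smul, hc, map_zero]

/-- The degree kills cohomology downstairs if it vanishes upstairs. -/
theorem natCast_smul_eq_zero (hY : ∀ y : Y, IsIntegrallyClosed (Y.presheaf.stalk y))
    (hπ : π ≫ (Y ↘ Spec (CommRingCat.of A)) = Z ↘ Spec (CommRingCat.of A))
    (hZ : Subsingleton (Coh.HH Z (Coh.structureModule Z) 1))
    (x : Coh.HH Y (Coh.structureModule Y) 1) :
    (Module.finrank Y.functionField Z.functionField : A) • x = 0 := by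
  haveI : (Coh.structureModule Z).IsQuasicoherent := StMod.isQCoh_structureModule Z
  obtain ⟨E⟩ := CohFinite.hh_push_linear A π hπ (Coh.structureModule Z)
    (CohQC.directAcyclic_of_isAffineHom π (Coh.structureModule Z)) 1
  set n := Module.finrank Y.functionField Z.functionField
  have key : ClSub.unitToPush π ≫ trHom π hY =
      PicBdd.scal (show Γ(Y, ⊤) from Coh.toGlobal (Y ↘ Spec (CommRingCat.of A)) (n : A)) (Coh.structureModule Y) := by
    refine Scheme.Modules.hom_ext _ _ fun V => ?_
    ext (s : Γ(Y, V))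
    show ((trHom π hY).app V (π.app V s) : Γ(Y, V)) =
      Y.presheaf.map (homOfLE le_top).op (Coh.toGlobal (Y ↘ Spec (CommRingCat.of A)) (n : A)) * s
    refine eq_of_germ V _ _ fun _ => ?_
    rw [germ_trHom, map_mul]
    have e : germZ π V (π.app V s) = algebraMap Y.functionField Z.functionField (Y.germToFunctionField V s) :=
      (algebraMap_germ π V s).symm
    rw [e, Algebra.trace_algebraMap, nsmul_eq_mul]
    congr 1
    rw [map_natCast, map_natCast]
    exact (map_natCast _ _).symm
  rw [← hhMap_scal A (n : A) (Coh.structureModule Y) 1 x, ← key, CohFinite.hhMap_comp]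
  rw [@Subsingleton.elim _ (E.symm.toEquiv.subsingleton) (CohFinite.hhMap A (ClSub.unitToPush π) 1 x) 0, map_zero]

end Groth.Agent.RatTrace
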